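import Mathlib.Topology.Algebra.Category.ProfiniteGrp.Completion

set_option autoImplicit false

/-!
# Components of the map of profinite completions
-/

universe u

open CategoryTheory ProfiniteGrp ProfiniteGrp.ProfiniteCompletion

namespace GrothLib.ProfCompl21

theorem map_eta {G H : GrpCat.{u}} (f : G ⟶ H) (g : G) :
    (profiniteCompletion.map f).hom (etaFn G g) = etaFn H (f.hom g) := by
  have h := ConcreteCategory.congr_hom (lift_eta (f ≫ eta H)) g
  exact h

theorem map_apply {G H : GrpCat.{u}} (f : G ⟶ H) (x : completion G) (V : FiniteIndexNormalSubgroup H) :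
    ((profiniteCompletion.map f).hom x).1 V =
      QuotientGroup.map (V.comap f.hom).toSubgroup V.toSubgroup f.hom (fun _ hy => hy) (x.1 (V.comap f.hom)) := by
  have hcont : ∀ (K : GrpCat.{u}) (U : FiniteIndexNormalSubgroup K), Continuous fun y : completion K => y.1 U :=
    fun K U => (continuous_apply U).comp continuous_subtype_val
  have h1 : Continuous fun y : completion G => ((profiniteCompletion.map f).hom y).1 V :=
    (hcont H V).comp (profiniteCompletion.map f).hom.continuous_toFun
  let q : ((diagram G).obj (V.comap f.hom) : Type u) → ((diagram H).obj V : Type u) :=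
    QuotientGroup.map (V.comap f.hom).toSubgroup V.toSubgroup f.hom (fun _ hy => hy)
  haveI : DiscreteTopology ((diagram G).obj (V.comap f.hom) : Type u) := ⟨rfl⟩
  have hq : Continuous q := continuous_of_discreteTopology
  have h2 : Continuous fun y : completion G => q (y.1 (V.comap f.hom)) := hq.comp (hcont G _)
  refine congrFun ((denseRange G).equalizer h1 h2 (funext fun g => ?_)) x
  show ((profiniteCompletion.map f).hom (etaFn G g)).1 V = _
  rw [map_eta]
  rfl

/-- An element which modulo every subgroup of finite index is in the image lies in the image. -/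
theorem mem_range_of_forall {G H : GrpCat.{u}} (f : G ⟶ H) (x : completion H)
    (hx : ∀ V : FiniteIndexNormalSubgroup H, ∃ g : G, x.1 V = QuotientGroup.mk (f.hom g)) :
    ∃ y, (profiniteCompletion.map f).hom y = x := by
  classical
  let T : FiniteIndexNormalSubgroup H → Set (completion G) := fun V =>
    {y | ((profiniteCompletion.map f).hom y).1 V = x.1 V}
  have hTc : ∀ V, IsClosed (T V) := fun V => isClosed_eq
    (((continuous_apply V).comp continuous_subtype_val).comp (profiniteCompletion.map f).hom.continuous_toFun)
    continuous_const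
  have hsub : ∀ V W : FiniteIndexNormalSubgroup H, V.toSubgroup ≤ W.toSubgroup → T V ⊆ T W := by
    intro V W h y hy
    show ((profiniteCompletion.map f).hom y).1 W = x.1 W
    rw [← ((profiniteCompletion.map f).hom y).2 (homOfLE (show V ≤ W from h)), ← x.2 (homOfLE (show V ≤ W from h)),
      show ((profiniteCompletion.map f).hom y).1 V = x.1 V from hy]
  haveI : Nonempty (FiniteIndexNormalSubgroup H) := ⟨FiniteIndexNormalSubgroup.ofSubgroup ⊤⟩
  obtain ⟨y, hy⟩ := IsCompact.nonempty_iInter_of_directed_nonempty_isCompact_isClosed T
    (fun V W => ⟨FiniteIndexNormalSubgroup.ofSubgroup (V.toSubgroup ⊓ W.toSubgroup),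
      hsub _ _ inf_le_left, hsub _ _ inf_le_right⟩)
    (fun V => by
      obtain ⟨g, hg⟩ := hx V
      refine ⟨etaFn G g, ?_⟩
      show ((profiniteCompletion.map f).hom (etaFn G g)).1 V = x.1 V
      rw [map_eta, hg]
      rfl)
    (fun V => (hTc V).isCompact) hTc
  exact ⟨y, Subtype.ext (funext fun V => Set.mem_iInter.1 hy V)⟩

end GrothLib.ProfCompl21
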